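import Mathlib

set_option autoImplicit false
set_option linter.unusedSectionVars false
set_option linter.unusedVariables false
set_option linter.unusedSimpArgs false
set_option linter.style.haveILetI false
set_option maxHeartbeats 400000

/-!
# Exponential of a derivation (towards Seidenberg's theorem)

For a `k`-derivation `δ` of a commutative `k`-algebra `K` (`k` a field of characteristic zero)
we build the ring homomorphism `K → K⟦X⟧`, `a ↦ ∑ δⁿ(a)/n! Xⁿ`, and deduce the key
"almost integrality" transfer lemma.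
-/

open Finset Nat PowerSeries

namespace Groth.Agent.Lib.Helper6.Seid

section exp

variable {k : Type*} [Field k] [CharZero k] {K : Type*} [CommRing K] [Algebra k K]
  (δ : Derivation k K K)

theorem iterate_mul (n : ℕ) (a b : K) :
    δ^[n] (a * b) = ∑ ij ∈ antidiagonal n, (n.choose ij.1) • (δ^[ij.1] a * δ^[ij.2] b) := by
  induction n with
  | zero => simp
  | succ n ih =>
    rw [sum_antidiagonal_choose_succ_nsmul (M := K) (fun i j => δ^[i] a * δ^[j] b) n]
    simp only [Function.iterate_succ_apply', ih, map_sum, map_nsmul, Derivation.leibniz,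
      smul_eq_mul, smul_add, sum_add_distrib]
    congr 1
    refine sum_congr rfl fun ⟨i, j⟩ hij => ?_
    rw [n.choose_symm_of_eq_add (mem_antidiagonal.1 hij).symm, mul_comm]

/-- The `n`-th coefficient `δⁿ(a)/n!` of the exponential. -/
noncomputable def expCoeff (n : ℕ) (a : K) : K := ((n.factorial : k)⁻¹) • δ^[n] a

theorem expCoeff_zero (a : K) : expCoeff δ 0 a = a := by
  simp [expCoeff]

theorem expCoeff_one (a : K) : expCoeff δ 1 a = δ a := by
  simp [expCoeff]

theorem expCoeff_mul (n : ℕ) (a b : K) :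
    expCoeff δ n (a * b) = ∑ ij ∈ antidiagonal n, expCoeff δ ij.1 a * expCoeff δ ij.2 b := by
  unfold expCoeff
  rw [iterate_mul, smul_sum]
  refine sum_congr rfl fun ⟨i, j⟩ hij => ?_
  have hn : i + j = n := mem_antidiagonal.1 hij
  subst hn
  simp only
  rw [smul_mul_smul_comm, ← Nat.cast_smul_eq_nsmul k, smul_smul]
  congr 1
  have h := Nat.add_choose_mul_factorial_mul_factorial i j
  rw [← Nat.choose_symm_add] at h
  have h' : (((i + j).choose i : ℕ) : k) * (i.factorial : k) * (j.factorial : k) =
      ((i + j).factorial : k) := by exact_mod_cast h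
  have hi : (i.factorial : k) ≠ 0 := by exact_mod_cast i.factorial_ne_zero
  have hj : (j.factorial : k) ≠ 0 := by exact_mod_cast j.factorial_ne_zero
  have hij' : ((i + j).factorial : k) ≠ 0 := by exact_mod_cast (i + j).factorial_ne_zero
  have hc : (((i + j).choose i : ℕ) : k) ≠ 0 := by
    intro h0
    rw [h0, zero_mul, zero_mul] at h'
    exact hij' h'.symm
  rw [← h']
  field_simp

theorem expCoeff_add (n : ℕ) (a b : K) :
    expCoeff δ n (a + b) = expCoeff δ n a + expCoeff δ n b := by
  unfold expCoeff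
  rw [iterate_map_add, smul_add]

theorem expCoeff_map_zero (n : ℕ) : expCoeff δ n 0 = 0 := by
  unfold expCoeff
  rw [iterate_map_zero, smul_zero]

theorem expCoeff_map_one (n : ℕ) : expCoeff δ n 1 = if n = 0 then 1 else 0 := by
  unfold expCoeff
  cases n with
  | zero => simp
  | succ n =>
    rw [Function.iterate_succ_apply, Derivation.map_one_eq_zero, iterate_map_zero, smul_zero,
      if_neg (Nat.succ_ne_zero n)]

/-- The exponential `a ↦ ∑ δⁿ(a)/n! Xⁿ` as a ring homomorphism. -/
noncomputable def expHom : K →+* K⟦X⟧ where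
  toFun a := PowerSeries.mk fun n => expCoeff δ n a
  map_one' := by
    ext n
    rw [coeff_mk, coeff_one, expCoeff_map_one]
  map_mul' a b := by
    ext n
    rw [coeff_mk, coeff_mul, expCoeff_mul]
    refine sum_congr rfl fun ij _ => ?_
    rw [coeff_mk, coeff_mk]
  map_zero' := by
    ext n
    rw [coeff_mk, expCoeff_map_zero, map_zero]
  map_add' a b := by
    ext n
    rw [coeff_mk, expCoeff_add, map_add, coeff_mk, coeff_mk]

theorem coeff_expHom (n : ℕ) (a : K) : coeff n (expHom δ a) = expCoeff δ n a := by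
  show coeff n (PowerSeries.mk fun n => expCoeff δ n a) = _
  rw [coeff_mk]

theorem constantCoeff_expHom (a : K) : constantCoeff (expHom δ a) = a := by
  rw [← coeff_zero_eq_constantCoeff_apply, coeff_expHom, expCoeff_zero]

end exp

section subring

variable {K : Type*} [CommRing K]

/-- Power series with all coefficients in a subring. -/
def coeffSubring (A₀ : Subring K) : Subring K⟦X⟧ where
  carrier := {F | ∀ n, coeff n F ∈ A₀}
  mul_mem' := by
    intro F G hF hG n
    rw [coeff_mul]
    exact Subring.sum_mem _ fun ij _ => A₀.mul_mem (hF _) (hG _)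
  one_mem' := by
    intro n
    rw [coeff_one]
    split_ifs
    · exact A₀.one_mem
    · exact A₀.zero_mem
  add_mem' := by
    intro F G hF hG n
    rw [map_add]
    exact A₀.add_mem (hF n) (hG n)
  zero_mem' := by
    intro n
    rw [map_zero]
    exact A₀.zero_mem
  neg_mem' := by
    intro F hF n
    rw [map_neg]
    exact A₀.neg_mem (hF n)

theorem mem_coeffSubring {A₀ : Subring K} {F : K⟦X⟧} :
    F ∈ coeffSubring A₀ ↔ ∀ n, coeff n F ∈ A₀ := Iff.rfl

theorem C_mem_coeffSubring {A₀ : Subring K} {a : K} (ha : a ∈ A₀) :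
    C a ∈ coeffSubring A₀ := by
  intro n
  rw [coeff_C]
  split_ifs
  · exact ha
  · exact A₀.zero_mem

end subring

section key

variable {k : Type*} [Field k] [CharZero k] {K : Type*} [CommRing K] [Algebra k K]
  (δ : Derivation k K K) (A₀ : Subalgebra k K) (hδ : ∀ a ∈ A₀, δ a ∈ A₀)

include hδ in
theorem iterate_mem (n : ℕ) (a : K) (ha : a ∈ A₀) : δ^[n] a ∈ A₀ := by
  induction n with
  | zero => simpa using ha
  | succ n ih =>
    rw [Function.iterate_succ_apply']
    exact hδ _ ih

include hδ in
theorem expHom_mem (a : K) (ha : a ∈ A₀) : expHom δ a ∈ coeffSubring A₀.toSubring := by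
  intro n
  rw [coeff_expHom]
  exact A₀.smul_mem (iterate_mem δ A₀ hδ n a ha) _

include hδ in
/-- Key lemma: if `c xⁿ ∈ A₀` for all `n` then `c² (δ x)ⁿ ∈ A₀` for all `n`. -/
theorem key_mem (x c : K) (hc : c ∈ A₀) (hx : ∀ n : ℕ, c * x ^ n ∈ A₀) (n : ℕ) :
    c * c * (δ x) ^ n ∈ A₀ := by
  set S := coeffSubring A₀.toSubring with hS
  set y₁ : K⟦X⟧ := PowerSeries.mk fun p => coeff (p + 1) (expHom δ x) with hy₁
  have hy : expHom δ x - C x = X * y₁ := by
    have h := eq_X_mul_shift_add_const (expHom δ x)
    rw [constantCoeff_expHom] at h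
    rw [sub_eq_iff_eq_add]
    exact h
  have hterm1 : ∀ m : ℕ, expHom δ c * (expHom δ x) ^ m ∈ S := by
    intro m
    rw [← map_pow, ← map_mul]
    exact expHom_mem δ A₀ hδ _ (hx m)
  have hterm2 : ∀ j : ℕ, C c * (-C x) ^ j ∈ S := by
    intro j
    have : C c * (-C x) ^ j = C ((-1) ^ j * (c * x ^ j)) := by
      rw [neg_pow, map_mul, map_mul, map_pow, map_pow, map_neg, map_one]
      ring
    rw [this]
    apply C_mem_coeffSubring
    exact A₀.toSubring.mul_mem (A₀.toSubring.pow_mem (A₀.toSubring.neg_mem A₀.toSubring.one_mem) _)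
      (hx j)
  have hF : C c * expHom δ c * (expHom δ x - C x) ^ n ∈ S := by
    rw [sub_eq_add_neg, add_pow, mul_sum]
    refine Subring.sum_mem _ fun m _ => ?_
    have e : C c * expHom δ c * ((expHom δ x) ^ m * (-C x) ^ (n - m) * (n.choose m : K⟦X⟧)) =
        (expHom δ c * (expHom δ x) ^ m) * (C c * (-C x) ^ (n - m)) * (n.choose m : K⟦X⟧) := by
      ring
    rw [e]
    exact S.mul_mem (S.mul_mem (hterm1 m) (hterm2 _)) (natCast_mem S _)
  have hcoeff : coeff n (C c * expHom δ c * (expHom δ x - C x) ^ n) = c * c * (δ x) ^ n := by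
    rw [hy, mul_pow]
    have e : C c * expHom δ c * (X ^ n * y₁ ^ n) = (C c * expHom δ c * y₁ ^ n) * X ^ n := by ring
    rw [e]
    have h0 := coeff_mul_X_pow (C c * expHom δ c * y₁ ^ n) n 0
    rw [zero_add] at h0
    rw [h0, coeff_zero_eq_constantCoeff_apply, map_mul, map_mul, map_pow, constantCoeff_C,
      constantCoeff_expHom]
    congr 2
    rw [← coeff_zero_eq_constantCoeff_apply, hy₁, coeff_mk, zero_add, coeff_expHom, expCoeff_one]
  rw [← hcoeff]
  exact hF n

end key

end Groth.Agent.Lib.Helper6.Seid
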