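import Mathlib
import Groth.Agent.Lib.Helper6.Seid.SeidA

set_option autoImplicit false
set_option linter.unusedSectionVars false
set_option linter.unusedVariables false
set_option linter.unusedSimpArgs false
set_option linter.style.haveILetI false
set_option maxHeartbeats 400000

/-!
# Seidenberg's theorem: derivations extend to the normalization (characteristic zero)
-/


open scoped KaehlerDifferential

namespace Groth.Agent.Lib.Helper6.Seid

section ext

variable {k : Type*} [Field k] {A : Type*} [CommRing A] [Algebra k A] (D : Derivation k A A)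

/-- The `A`-linear map `Ω[Frac A / k] → Frac A` induced by `D`. -/
noncomputable def extLin : Ω[FractionRing A⁄k] →ₗ[A] FractionRing A :=
  IsLocalizedModule.lift (nonZeroDivisors A) (KaehlerDifferential.map k k A (FractionRing A))
    (((Algebra.linearMap A (FractionRing A)).compDer D).liftKaehlerDifferential)
    (fun x => IsLocalizedModule.map_units (Algebra.linearMap A (FractionRing A)) x)

/-- Extension of a derivation to the total ring of fractions. -/
noncomputable def extDer : Derivation k (FractionRing A) (FractionRing A) :=
  ((extLin D).extendScalarsOfIsLocalization (nonZeroDivisors A) (FractionRing A)).compDer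
    (KaehlerDifferential.D k (FractionRing A))

theorem extDer_algebraMap (a : A) :
    extDer D (algebraMap A (FractionRing A) a) = algebraMap A (FractionRing A) (D a) := by
  show extLin D (KaehlerDifferential.D k (FractionRing A) (algebraMap A _ a)) = _
  rw [← KaehlerDifferential.map_D k k A (FractionRing A)]
  unfold extLin
  rw [IsLocalizedModule.lift_apply, Derivation.liftKaehlerDifferential_comp_D]
  rfl

end ext

section integral

variable {A : Type*} [CommRing A]

theorem isIntegral_of_almost [IsNoetherianRing A] (x : FractionRing A) (c : A)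
    (hc : c ∈ nonZeroDivisors A)
    (h : ∀ n : ℕ, ∃ a : A, algebraMap A (FractionRing A) c * x ^ n =
      algebraMap A (FractionRing A) a) : IsIntegral A x := by
  set mulc : FractionRing A →ₗ[A] FractionRing A :=
    LinearMap.mulLeft A (algebraMap A (FractionRing A) c) with hmulc
  have hu : IsUnit (algebraMap A (FractionRing A) c) :=
    IsLocalization.map_units (FractionRing A) (⟨c, hc⟩ : nonZeroDivisors A)
  have hmulc : Function.Injective mulc := by
    intro a b hab
    exact hu.mul_left_cancel hab
  have hle : (Subalgebra.toSubmodule (Algebra.adjoin A {x})).map mulc ≤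
      LinearMap.range (Algebra.linearMap A (FractionRing A)) := by
    rw [Algebra.adjoin_eq_span, Submodule.map_span, Submodule.span_le]
    rintro _ ⟨y, hy, rfl⟩
    rw [← Submonoid.powers_eq_closure] at hy
    obtain ⟨n, rfl⟩ := hy
    obtain ⟨a, ha⟩ := h n
    exact ⟨a, ha.symm⟩
  have hfg : ((Subalgebra.toSubmodule (Algebra.adjoin A {x})).map mulc).FG :=
    isNoetherian_submodule.mp inferInstance _ hle
  have hfg' : (Subalgebra.toSubmodule (Algebra.adjoin A {x})).FG :=
    Submodule.fg_of_fg_map_injective mulc hmulc hfg
  exact IsIntegral.of_mem_of_fg _ hfg' x (Algebra.self_mem_adjoin_singleton A x)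

theorem exists_den_of_isIntegral (x : FractionRing A) (hx : IsIntegral A x) :
    ∃ c ∈ nonZeroDivisors A, ∀ n : ℕ, ∃ a : A,
      algebraMap A (FractionRing A) c * x ^ n = algebraMap A (FractionRing A) a := by
  obtain ⟨s, hs⟩ := hx.fg_adjoin_singleton
  obtain ⟨b, hb⟩ := IsLocalization.exist_integer_multiples_of_finset (nonZeroDivisors A) s
  refine ⟨b, b.2, fun n => ?_⟩
  have hmem : x ^ n ∈ Submodule.span A (s : Set (FractionRing A)) := by
    rw [hs]
    exact Subalgebra.pow_mem _ (Algebra.self_mem_adjoin_singleton A x) n
  have key : ∀ y ∈ Submodule.span A (s : Set (FractionRing A)), ∃ a : A,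
      algebraMap A (FractionRing A) b * y = algebraMap A (FractionRing A) a := by
    intro y hy
    induction hy using Submodule.span_induction with
    | mem y hy =>
      obtain ⟨a, ha⟩ := hb y hy
      exact ⟨a, by rw [ha, Algebra.smul_def]⟩
    | zero => exact ⟨0, by simp⟩
    | add y z _ _ hy hz =>
      obtain ⟨a, ha⟩ := hy
      obtain ⟨a', ha'⟩ := hz
      exact ⟨a + a', by rw [mul_add, ha, ha', map_add]⟩
    | smul r y _ hy =>
      obtain ⟨a, ha⟩ := hy
      exact ⟨r * a, by rw [Algebra.smul_def, mul_left_comm, ha, map_mul]⟩
  exact key _ hmem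

end integral

section main

variable {k : Type*} [Field k] [CharZero k] {A : Type*} [CommRing A] [Algebra k A]
  [IsNoetherianRing A] (D : Derivation k A A)

theorem extDer_isIntegral (x : FractionRing A) (hx : IsIntegral A x) :
    IsIntegral A (extDer D x) := by
  obtain ⟨c, hc, h⟩ := exists_den_of_isIntegral x hx
  set A₀ : Subalgebra k (FractionRing A) := (IsScalarTower.toAlgHom k A (FractionRing A)).range
    with hA₀
  have hmem : ∀ y : FractionRing A, y ∈ A₀ ↔ ∃ a : A, y = algebraMap A (FractionRing A) a := by
    intro y
    constructor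
    · rintro ⟨a, rfl⟩
      exact ⟨a, rfl⟩
    · rintro ⟨a, rfl⟩
      exact ⟨a, rfl⟩
  have hδ : ∀ a ∈ A₀, extDer D a ∈ A₀ := by
    intro a ha
    obtain ⟨a', rfl⟩ := (hmem a).mp ha
    rw [extDer_algebraMap]
    exact (hmem _).mpr ⟨_, rfl⟩
  have hx' : ∀ n : ℕ, algebraMap A (FractionRing A) c * x ^ n ∈ A₀ := by
    intro n
    obtain ⟨a, ha⟩ := h n
    exact (hmem _).mpr ⟨a, ha⟩
  have hkey := key_mem (extDer D) A₀ hδ x (algebraMap A (FractionRing A) c)
    ((hmem _).mpr ⟨c, rfl⟩) hx'
  apply isIntegral_of_almost (extDer D x) (c * c) (mul_mem hc hc)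
  intro n
  obtain ⟨a, ha⟩ := (hmem _).mp (hkey n)
  exact ⟨a, by rw [map_mul, ha]⟩

/-- The extension of `D` to the normalization. -/
noncomputable def normDer :
    Derivation k ↥(integralClosure A (FractionRing A)) ↥(integralClosure A (FractionRing A)) :=
  Derivation.mk'
    { toFun := fun x => ⟨extDer D x.1, extDer_isIntegral D x.1 x.2⟩
      map_add' := by
        intro x y
        apply Subtype.ext
        simp
      map_smul' := by
        intro r x
        apply Subtype.ext
        simp }
    (by
      intro x y
      apply Subtype.ext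
      simp [Derivation.leibniz])

theorem normDer_coe (x : ↥(integralClosure A (FractionRing A))) :
    ((normDer D x : ↥(integralClosure A (FractionRing A))) : FractionRing A) = extDer D x.1 := rfl

theorem normDer_algebraMap (a : A) :
    ((normDer D (algebraMap A ↥(integralClosure A (FractionRing A)) a) :
      ↥(integralClosure A (FractionRing A))) : FractionRing A) =
      algebraMap A (FractionRing A) (D a) := by
  rw [normDer_coe]
  exact extDer_algebraMap D a

end main

end Groth.Agent.Lib.Helper6.Seid
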